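import Groth.Agent.ExtFin.Derived
import Groth.Agent.DQGen.Bounds

/-!
# Ext from a perfect object to a bounded coherent one
-/

set_option linter.style.haveILetI false
set_option linter.unusedSectionVars false
set_option backward.isDefEq.respectTransparency false
set_option backward.isDefEq.respectTransparency.types false

universe u

open CategoryTheory CategoryTheory.Limits AlgebraicGeometry Pretriangulated

attribute [local instance] HasDerivedCategory.standard

noncomputable section

namespace Groth.Agent.ExtFin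

theorem finite_ext_perfect (A : Type u) [CommRing A] [IsNoetherianRing A] (X : Scheme.{u})
    [X.Over (Spec (CommRingCat.of A))] [IsProper (X ↘ Spec (CommRingCat.of A))] (K E : DCoh.D X)
    (hK : DCoh.IsCohD K) (hKb : ∃ a b : ℤ, K.IsGE a ∧ K.IsLE b) (hE : DCoh.IsPerfect E) :
    (∀ i : ℤ, Module.Finite A (E ⟶ K⟦i⟧)) ∧ Set.Finite {i : ℤ | Nontrivial (E ⟶ K⟦i⟧)} := by
  haveI : IsLocallyNoetherian (Spec (CommRingCat.of A)) := isLocallyNoetherian_Spec.2 inferInstance
  haveI : IsLocallyNoetherian X := LocallyOfFiniteType.isLocallyNoetherian (X ↘ Spec (CommRingCat.of A))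
  haveI : CompactSpace X := QuasiCompact.compactSpace_of_compactSpace (X ↘ Spec (CommRingCat.of A))
  haveI : QuasiSeparatedSpace X := quasiSeparatedSpace_of_quasiSeparated (X ↘ Spec (CommRingCat.of A))
  obtain ⟨a, b, ha, hb⟩ := hKb
  obtain ⟨aE, bE, -, hbE⟩ := DQGen.exists_bounds_of_isPerfect hE
  have hEc : DCoh.IsCohD E := fun i =>
    KFlatLib.isCoh_of_locPC (DQGen.isQCohD_of_isPerfect hE) (((KFlatLib.isPerfect_iff E).1 hE).locPC i) i le_rfl
  refine ⟨fun i => finite_hom E K hEc ⟨bE, hbE⟩ hK ⟨a, ha⟩ i, ?_⟩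
  obtain ⟨N, b', h1, h2⟩ := DQGen.exists_range hE
  refine Set.Finite.subset (Set.finite_Icc (a - b') (b - N)) fun i hi => ?_
  haveI : Nontrivial (E ⟶ K⟦i⟧) := hi
  by_contra hni
  rw [Set.mem_Icc, not_and_or] at hni
  refine not_subsingleton (E ⟶ K⟦i⟧) (subsingleton_of_forall_eq 0 fun φ => ?_)
  rcases hni with h | h
  · exact h2 _ (DQGen.isGE_shift a i (b' + 1) ha (by omega)) φ
  · exact h1 _ (KFlatLib.isQCohD_shift (KFlatLib.isCohD_isQCohD hK) i) (DQGen.isLE_shift b i N hb (by omega)) φ

end Groth.Agent.ExtFin
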