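import Groth.Agent.ExtFin.Sheaf
import Groth.Agent.KFlatLib.Scheme.CohD
import Mathlib.Algebra.Homology.DerivedCategory.Ext.Linear
import Mathlib.Algebra.Homology.DerivedCategory.TStructure
import Mathlib.Algebra.Homology.DerivedCategory.Linear
import Mathlib.CategoryTheory.Triangulated.Yoneda

/-!
# Finiteness of morphisms in `D(O_X)` between coherent complexes
-/

set_option linter.style.haveILetI false
set_option linter.unusedSectionVars false
set_option backward.isDefEq.respectTransparency false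
set_option backward.isDefEq.respectTransparency.types false

universe u

open CategoryTheory CategoryTheory.Limits AlgebraicGeometry Pretriangulated

attribute [local instance] HasDerivedCategory.standard

noncomputable section

namespace Groth.Agent.ExtFin

variable (A : Type u) [CommRing A] [IsNoetherianRing A] {X : Scheme.{u}}
  [X.Over (Spec (CommRingCat.of A))]

/-- All `Ext` groups are finite. -/
def Fin' (K L : DCoh.D X) : Prop := ∀ n : ℤ, Module.Finite A (K ⟶ L⟦n⟧)

variable {A}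

lemma Fin'.of_iso_left {K K' L : DCoh.D X} (e : K ≅ K') (h : Fin' A K L) : Fin' A K' L := fun n =>
  haveI := h n; Module.Finite.equiv (Linear.homCongr A e (Iso.refl (L⟦n⟧)))

lemma Fin'.of_iso_right {K L L' : DCoh.D X} (e : L ≅ L') (h : Fin' A K L) : Fin' A K L' := fun n =>
  haveI := h n; Module.Finite.equiv (Linear.homCongr A (Iso.refl K) ((shiftFunctor (DCoh.D X) n).mapIso e))

lemma Fin'.shift_right {K L : DCoh.D X} (h : Fin' A K L) (l : ℤ) : Fin' A K (L⟦l⟧) := fun n =>
  haveI := h (l + n)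
  Module.Finite.equiv (Linear.homCongr A (Iso.refl K) ((shiftFunctorAdd' (DCoh.D X) l n (l + n) rfl).app L))

lemma Fin'.shift_left {K L : DCoh.D X} (h : Fin' A K L) (k : ℤ) : Fin' A (K⟦k⟧) L := fun n => by
  haveI := h (n - k)
  let S := shiftFunctor (DCoh.D X) k
  let e : (K ⟶ L⟦n - k⟧) →ₗ[A] (K⟦k⟧ ⟶ (L⟦n - k⟧)⟦k⟧) :=
    { toFun := fun φ => S.map φ
      map_add' := fun _ _ => S.map_add
      map_smul' := fun r φ => Functor.map_smul (F := S) r φ }
  haveI : Module.Finite A (K⟦k⟧ ⟶ (shiftFunctor (DCoh.D X) (n - k) ⋙ shiftFunctor (DCoh.D X) k).obj L) :=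
    Module.Finite.of_surjective e S.map_surjective
  exact Module.Finite.equiv (Linear.homCongr A (Iso.refl (K⟦k⟧))
    ((shiftFunctorAdd' (DCoh.D X) (n - k) k n (by omega)).app L).symm)

lemma finite_of_right {K : DCoh.D X} {T : Triangle (DCoh.D X)} (hT : T ∈ distTriang _) (n : ℤ)
    (h₁ : Module.Finite A (K ⟶ T.obj₁⟦n⟧)) (h₃ : Module.Finite A (K ⟶ T.obj₃⟦n⟧)) :
    Module.Finite A (K ⟶ T.obj₂⟦n⟧) := by
  have hn := Triangle.shift_distinguished T hT n
  refine finite_of_exact (Linear.rightComp A K ((Triangle.shiftFunctor _ n).obj T).mor₁)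
    (Linear.rightComp A K ((Triangle.shiftFunctor _ n).obj T).mor₂) h₁ h₃ fun v hv => ?_
  obtain ⟨x, hx⟩ := Triangle.coyoneda_exact₂ _ hn v hv
  exact ⟨x, hx.symm⟩

lemma finite_of_left {M : DCoh.D X} {T : Triangle (DCoh.D X)} (hT : T ∈ distTriang _)
    (h₁ : Module.Finite A (T.obj₁ ⟶ M)) (h₃ : Module.Finite A (T.obj₃ ⟶ M)) :
    Module.Finite A (T.obj₂ ⟶ M) := by
  refine finite_of_exact (Linear.leftComp A M T.mor₂) (Linear.leftComp A M T.mor₁) h₃ h₁ fun v hv => ?_
  obtain ⟨x, hx⟩ := Triangle.yoneda_exact₂ T hT v hv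
  exact ⟨x, hx.symm⟩

lemma Fin'.obj₂_right {K : DCoh.D X} {T : Triangle (DCoh.D X)} (hT : T ∈ distTriang _)
    (h₁ : Fin' A K T.obj₁) (h₃ : Fin' A K T.obj₃) : Fin' A K T.obj₂ := fun n =>
  finite_of_right hT n (h₁ n) (h₃ n)

lemma Fin'.obj₂_left {L : DCoh.D X} {T : Triangle (DCoh.D X)} (hT : T ∈ distTriang _)
    (h₁ : Fin' A T.obj₁ L) (h₃ : Fin' A T.obj₃ L) : Fin' A T.obj₂ L := fun n =>
  finite_of_left hT (h₁ n) (h₃ n)

omit [IsNoetherianRing A] [X.Over (Spec (CommRingCat.of A))] in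
/-- The cohomology of the truncations. -/
lemma isCohD_trunc {K : DCoh.D X} [IsLocallyNoetherian X] (hK : DCoh.IsCohD K) (c : ℤ) :
    DCoh.IsCohD ((DerivedCategory.TStructure.t.truncLT c).obj K) ∧
      DCoh.IsCohD ((DerivedCategory.TStructure.t.truncGE c).obj K) := by
  let t : Triangulated.TStructure (DCoh.D X) := DerivedCategory.TStructure.t
  let T := (t.triangleLTGE c).obj K
  have hT : T ∈ distTriang _ := t.triangleLTGE_distinguished _ K
  haveI h₁le : T.obj₁.IsLE (c - 1) := t.isLE_truncLT_obj K _ _ (by omega)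
  haveI h₃ge : T.obj₃.IsGE c := t.isGE_truncGE_obj K _ _ le_rfl
  constructor
  · intro i
    by_cases hi : i < c
    · haveI : Mono ((DerivedCategory.homologyFunctor X.Modules i).map T.mor₁) :=
        (DerivedCategory.HomologySequence.exact₁ T hT (i - 1) i (by omega)).mono_g
          ((DerivedCategory.isZero_of_isGE T.obj₃ c (i - 1) (by omega)).eq_of_src _ _)
      haveI : Epi ((DerivedCategory.homologyFunctor X.Modules i).map T.mor₁) :=
        (DerivedCategory.HomologySequence.exact₂ T hT i).epi_f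
          ((DerivedCategory.isZero_of_isGE T.obj₃ c i hi).eq_of_tgt _ _)
      haveI := isIso_of_mono_of_epi ((DerivedCategory.homologyFunctor X.Modules i).map T.mor₁)
      exact KFlatLib.isCoh_of_iso (asIso ((DerivedCategory.homologyFunctor X.Modules i).map T.mor₁)).symm (hK i)
    · exact KFlatLib.isCoh_of_isZero (DerivedCategory.isZero_of_isLE T.obj₁ (c - 1) i (by omega))
  · intro i
    by_cases hi : c ≤ i
    · haveI : Mono ((DerivedCategory.homologyFunctor X.Modules i).map T.mor₂) :=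
        (DerivedCategory.HomologySequence.exact₂ T hT i).mono_g
          ((DerivedCategory.isZero_of_isLE T.obj₁ (c - 1) i (by omega)).eq_of_src _ _)
      haveI : Epi ((DerivedCategory.homologyFunctor X.Modules i).map T.mor₂) :=
        (DerivedCategory.HomologySequence.exact₃ T hT i (i + 1) rfl).epi_f
          ((DerivedCategory.isZero_of_isLE T.obj₁ (c - 1) (i + 1) (by omega)).eq_of_tgt _ _)
      haveI := isIso_of_mono_of_epi ((DerivedCategory.homologyFunctor X.Modules i).map T.mor₂)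
      exact KFlatLib.isCoh_of_iso (asIso ((DerivedCategory.homologyFunctor X.Modules i).map T.mor₂)) (hK i)
    · exact KFlatLib.isCoh_of_isZero (DerivedCategory.isZero_of_isGE T.obj₃ c i (by omega))

omit [IsNoetherianRing A] [X.Over (Spec (CommRingCat.of A))] in
/-- Devissage of a bounded coherent object. -/
lemma bounded_induction [IsLocallyNoetherian X] (P : DCoh.D X → Prop)
    (hiso : ∀ {K L}, (K ≅ L) → P K → P L) (hshift : ∀ {K}, P K → ∀ k : ℤ, P (K⟦k⟧))
    (htri : ∀ T ∈ distTriang (DCoh.D X), P T.obj₁ → P T.obj₃ → P T.obj₂)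
    (hbase : ∀ M : X.Modules, Coh.IsCoh M → P (DCoh.inD X M)) :
    ∀ (m : ℕ) (a : ℤ) (K : DCoh.D X), K.IsGE a → K.IsLE (a + m) → DCoh.IsCohD K → P K := by
  intro m
  induction m with
  | zero =>
    intro a K hge hle hq
    haveI := hge
    haveI : K.IsLE a := by simpa using hle
    obtain ⟨M, ⟨e⟩⟩ := DerivedCategory.exists_iso_singleFunctor_obj_of_isGE_of_isLE K a
    refine hiso ((((DerivedCategory.singleFunctors X.Modules).shiftIso (-a) a 0 (by omega)).app M) ≪≫ e.symm)
      (hshift (hbase M ?_) (-a))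
    exact KFlatLib.isCoh_of_iso ((DerivedCategory.homologyFunctor X.Modules a).mapIso e ≪≫
      (DerivedCategory.singleFunctorCompHomologyFunctorIso X.Modules a).app M) (hq a)
  | succ m ih =>
    intro a K hge hle hq
    haveI := hge
    haveI := hle
    let t : Triangulated.TStructure (DCoh.D X) := DerivedCategory.TStructure.t
    let T := (t.triangleLTGE (a + 1)).obj K
    have hT : T ∈ distTriang _ := t.triangleLTGE_distinguished _ K
    haveI h₁le : T.obj₁.IsLE a := t.isLE_truncLT_obj K _ _ (by omega)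
    haveI h₃ge : T.obj₃.IsGE (a + 1) := t.isGE_truncGE_obj K _ _ le_rfl
    haveI h₁ge : T.obj₁.IsGE a := by
      rw [DerivedCategory.isGE_iff]
      intro i hi
      exact (DerivedCategory.HomologySequence.exact₁ T hT (i - 1) i (by omega)).isZero_X₂
        ((DerivedCategory.isZero_of_isGE T.obj₃ (a + 1) (i - 1) (by omega)).eq_of_src _ _)
        ((DerivedCategory.isZero_of_isGE K a i hi).eq_of_tgt _ _)
    haveI h₃le : T.obj₃.IsLE (a + 1 + m) := by
      rw [DerivedCategory.isLE_iff]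
      intro i hi
      exact (DerivedCategory.HomologySequence.exact₃ T hT i (i + 1) rfl).isZero_X₂
        ((DerivedCategory.isZero_of_isLE K (a + (m + 1 : ℕ)) i (by omega)).eq_of_src _ _)
        ((DerivedCategory.isZero_of_isLE T.obj₁ a (i + 1) (by omega)).eq_of_tgt _ _)
    exact htri T hT
      (ih a T.obj₁ h₁ge (t.isLE_of_le _ a _ (by omega)) (isCohD_trunc hq (a + 1)).1)
      (ih (a + 1) T.obj₃ h₃ge h₃le (isCohD_trunc hq (a + 1)).2)

variable [IsProper (X ↘ Spec (CommRingCat.of A))]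

lemma fin'_inD {F G : X.Modules} (hF : Coh.IsCoh F) (hG : Coh.IsCoh G) :
    Fin' A (DCoh.inD X F) (DCoh.inD X G) := by
  intro n
  haveI : HasExt.{u} X.Modules := IsGrothendieckAbelian.hasExt _
  rcases lt_or_ge n 0 with h | h
  · haveI : Subsingleton (DCoh.inD X F ⟶ (DCoh.inD X G)⟦n⟧) := subsingleton_of_forall_eq 0 fun φ =>
      DerivedCategory.TStructure.t.zero_of_isLE_of_isGE φ 0 (-n) (by omega) inferInstance
        (DerivedCategory.TStructure.t.isGE_shift _ 0 n (-n) (by omega))
    infer_instance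
  · obtain ⟨m, rfl⟩ := Int.eq_ofNat_of_zero_le h
    haveI := finite_ext (A := A) hF hG m
    exact Module.Finite.equiv (Abelian.Ext.homLinearEquiv (R := A) (C := X.Modules) (X := F) (Y := G) (n := m))

lemma fin'_bounded [IsLocallyNoetherian X] {K L : DCoh.D X} {mK mL : ℕ} {aK aL : ℤ}
    (hKge : K.IsGE aK) (hKle : K.IsLE (aK + mK)) (hK : DCoh.IsCohD K)
    (hLge : L.IsGE aL) (hLle : L.IsLE (aL + mL)) (hL : DCoh.IsCohD L) : Fin' A K L := by
  refine bounded_induction (fun L => Fin' A K L) (fun e h => h.of_iso_right e) (fun h k => h.shift_right k)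
    (fun T hT h₁ h₃ => Fin'.obj₂_right hT h₁ h₃) (fun G hG => ?_) mL aL L hLge hLle hL
  exact bounded_induction (fun K => Fin' A K (DCoh.inD X G)) (fun e h => h.of_iso_left e) (fun h k => h.shift_left k)
    (fun T hT h₁ h₃ => Fin'.obj₂_left hT h₁ h₃) (fun F hF => fin'_inD hF hG) mK aK K hKge hKle hK

theorem finite_hom (K L : DCoh.D X) (hK : DCoh.IsCohD K) (hKb : ∃ b : ℤ, K.IsLE b)
    (hL : DCoh.IsCohD L) (hLa : ∃ a : ℤ, L.IsGE a) (n : ℤ) : Module.Finite A (K ⟶ L⟦n⟧) := by
  haveI : IsLocallyNoetherian (Spec (CommRingCat.of A)) := isLocallyNoetherian_Spec.2 inferInstance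
  haveI : IsLocallyNoetherian X := LocallyOfFiniteType.isLocallyNoetherian (X ↘ Spec (CommRingCat.of A))
  obtain ⟨b, hb⟩ := hKb
  obtain ⟨a, ha⟩ := hLa
  haveI := hb
  haveI := ha
  let t : Triangulated.TStructure (DCoh.D X) := DerivedCategory.TStructure.t
  let m : ℤ := max (b + n + 1) (a + 1)
  let T := (t.triangleLTGE m).obj L
  have hT : T ∈ distTriang _ := t.triangleLTGE_distinguished _ L
  haveI h₁le : T.obj₁.IsLE (m - 1) := t.isLE_truncLT_obj L _ _ (by omega)
  haveI h₃ge : T.obj₃.IsGE m := t.isGE_truncGE_obj L _ _ le_rfl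
  haveI h₁ge : T.obj₁.IsGE a := by
    rw [DerivedCategory.isGE_iff]
    intro i hi
    exact (DerivedCategory.HomologySequence.exact₁ T hT (i - 1) i (by omega)).isZero_X₂
      ((DerivedCategory.isZero_of_isGE T.obj₃ m (i - 1) (by omega)).eq_of_src _ _)
      ((DerivedCategory.isZero_of_isGE L a i hi).eq_of_tgt _ _)
  haveI : Subsingleton (K ⟶ T.obj₃⟦n⟧) := subsingleton_of_forall_eq 0 fun φ =>
    t.zero_of_isLE_of_isGE φ b (m - n) (by omega) hb (t.isGE_shift T.obj₃ m n (m - n) (by omega))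
  refine finite_of_right hT n ?_ inferInstance
  let c : ℤ := min (a - n) b
  let T' := (t.triangleLTGE c).obj K
  have hT' : T' ∈ distTriang _ := t.triangleLTGE_distinguished _ K
  haveI h₁le' : T'.obj₁.IsLE (c - 1) := t.isLE_truncLT_obj K _ _ (by omega)
  haveI h₃ge' : T'.obj₃.IsGE c := t.isGE_truncGE_obj K _ _ le_rfl
  haveI h₃le' : T'.obj₃.IsLE b := by
    rw [DerivedCategory.isLE_iff]
    intro i hi
    exact (DerivedCategory.HomologySequence.exact₃ T' hT' i (i + 1) rfl).isZero_X₂
      ((DerivedCategory.isZero_of_isLE K b i hi).eq_of_src _ _)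
      ((DerivedCategory.isZero_of_isLE T'.obj₁ (c - 1) (i + 1) (by omega)).eq_of_tgt _ _)
  haveI : Subsingleton (T'.obj₁ ⟶ T.obj₁⟦n⟧) := subsingleton_of_forall_eq 0 fun φ =>
    t.zero_of_isLE_of_isGE φ (c - 1) (a - n) (by omega) h₁le' (t.isGE_shift T.obj₁ a n (a - n) (by omega))
  refine finite_of_left hT' inferInstance ?_
  exact fin'_bounded (mK := (b - c).toNat) (mL := (m - 1 - a).toNat) (aK := c) (aL := a) h₃ge'
    (t.isLE_of_le _ b _ (by omega)) (isCohD_trunc hK c).2 h₁ge (t.isLE_of_le _ (m - 1) _ (by omega))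
    (isCohD_trunc hL m).1 n

end Groth.Agent.ExtFin
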