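import Groth.Agent.ExtShX.Edge
import Groth.Agent.ExtShX.Local
import Groth.Agent.ExtShX.HighTwist
import Groth.Agent.Lib.PnDualSheafHom
import Groth.Agent.S0002

/-!
# Finiteness of Ext of coherent modules on a proper scheme over a Noetherian ring
-/

set_option linter.style.haveILetI false
set_option linter.unusedSectionVars false
set_option backward.isDefEq.respectTransparency false
set_option backward.isDefEq.respectTransparency.types false

universe u

open CategoryTheory CategoryTheory.Limits AlgebraicGeometry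

noncomputable section

attribute [local instance] CategoryTheory.Abelian.hasFiniteBiproducts

namespace Groth.Agent.ExtFin

open Groth.Agent.ExtShX

section Alg

variable {A : Type*} [CommRing A] [IsNoetherianRing A] {U V W P Q M : Type*}
  [AddCommGroup U] [Module A U] [AddCommGroup V] [Module A V] [AddCommGroup W] [Module A W]
  [AddCommGroup P] [Module A P] [AddCommGroup Q] [Module A Q] [AddCommGroup M] [Module A M]

lemma finite_of_exact (f : U →ₗ[A] V) (g : V →ₗ[A] W) (hU : Module.Finite A U) (hW : Module.Finite A W)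
    (h : ∀ v, g v = 0 → ∃ x, f x = v) : Module.Finite A V := by
  haveI := isNoetherian_of_isNoetherianRing_of_finite A U
  haveI := isNoetherian_of_isNoetherianRing_of_finite A W
  refine ⟨?_⟩
  refine Submodule.fg_of_fg_map_of_fg_inf_ker g (IsNoetherian.noetherian _) ?_
  rw [top_inf_eq]
  have : LinearMap.ker g = (Submodule.comap (g ∘ₗ f) ⊥).map f :=
    le_antisymm (fun v hv => by
      obtain ⟨x, rfl⟩ := h v hv
      exact ⟨x, hv, rfl⟩) (by rintro _ ⟨x, hx, rfl⟩; exact hx)
  rw [this]
  exact Submodule.FG.map f (IsNoetherian.noetherian _)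

lemma finite_of_factor (L : V →ₗ[A] M) (hL : Function.Surjective L) (q : V →ₗ[A] P)
    (hP : Module.Finite A P) (b : W →ₗ[A] V) (hq : ∀ v, q v = 0 → ∃ x, b x = v) (δ : W →ₗ[A] Q)
    (hQ : Module.Finite A Q) (hδ : ∀ x, δ x = 0 → L (b x) = 0) : Module.Finite A M := by
  haveI := isNoetherian_of_isNoetherianRing_of_finite A P
  haveI := isNoetherian_of_isNoetherianRing_of_finite A Q
  let N := LinearMap.range (L ∘ₗ b)
  haveI : Module.Finite A (W ⧸ LinearMap.ker δ) := Module.Finite.equiv δ.quotKerEquivRange.symm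
  haveI : Module.Finite A N :=
    Module.Finite.of_surjective ((LinearMap.ker δ).liftQ ((L ∘ₗ b).rangeRestrict) fun x hx =>
      Subtype.ext (hδ x hx)) (by
        rintro ⟨_, x, rfl⟩
        exact ⟨Submodule.Quotient.mk x, rfl⟩)
  haveI : Module.Finite A (V ⧸ LinearMap.ker q) := Module.Finite.equiv q.quotKerEquivRange.symm
  haveI : Module.Finite A (M ⧸ N) :=
    Module.Finite.of_surjective ((LinearMap.ker q).liftQ (N.mkQ ∘ₗ L) fun v hv => by
      obtain ⟨x, rfl⟩ := hq v hv
      exact (Submodule.Quotient.mk_eq_zero N).2 ⟨x, rfl⟩) (by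
        intro m
        obtain ⟨m, rfl⟩ := N.mkQ_surjective m
        obtain ⟨v, rfl⟩ := hL m
        exact ⟨Submodule.Quotient.mk v, rfl⟩)
  exact Module.Finite.of_submodule_quotient N

end Alg

variable {A : Type u} [CommRing A] [IsNoetherianRing A] {X : Scheme.{u}}
  [X.Over (Spec (CommRingCat.of A))] [IsProper (X ↘ Spec (CommRingCat.of A))] [HasExt.{u} X.Modules]

theorem finite_ext_unit {M : X.Modules} (hM : Coh.IsCoh M) (n : ℕ) :
    Module.Finite A (Abelian.Ext.{u} (Coh.structureModule X) M n) := by
  obtain ⟨e⟩ := hom_structure_iso M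
  obtain ⟨ε⟩ := PnDual.nonempty_ext_linearEquiv_HH (A := A) (F := Coh.structureModule X)
    (H23.PullPush.isFinLocFree_of_iso (coproductUniqueIso fun _ : Fin 1 => Coh.structureModule X) (fun x => KFlatLib.isFinLocFree_freeMod 1 x)) M n
  haveI := S0002.result A X ((SheafHomX.hom (Coh.structureModule X)).obj M) (SheafHomX.isCoh_of_iso e.symm hM) n
  exact Module.Finite.equiv ε.symm

/-- `Ext` of coherent modules on a proper scheme over a Noetherian ring is finite. -/
theorem finite_ext {F G : X.Modules} (hF : Coh.IsCoh F) (hG : Coh.IsCoh G) (n : ℕ) :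
    Module.Finite A (Abelian.Ext.{u} F G n) := by
  haveI : IsLocallyNoetherian (Spec (CommRingCat.of A)) := isLocallyNoetherian_Spec.2 inferInstance
  haveI : IsLocallyNoetherian X := LocallyOfFiniteType.isLocallyNoetherian (X ↘ Spec (CommRingCat.of A))
  let O := Coh.structureModule X
  let H := SheafHomX.hom F
  have hH0 : Coh.IsCoh (H.obj G) := SheafHomX.isCoh_of_iso ((zeroIso F).app G) (isCoh_E hF hG 0)
  rcases n with _ | n
  · haveI : Module.Finite A (O ⟶ H.obj G) := by
      haveI := finite_ext_unit (A := A) hH0 0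
      exact Module.Finite.equiv (Abelian.Ext.linearEquiv₀ (R := A))
    exact Module.Finite.equiv ((Abelian.Ext.linearEquiv₀ (R := A)).trans (evLin F G).symm).symm
  haveI : EnoughInjectives X.Modules := inferInstanceAs (EnoughInjectives (SheafOfModules _))
  let R := injectiveResolution G
  let d := fun n => R.cocomplex.d n (n + 1)
  let Z : ℕ → X.Modules := fun n => kernel (d n)
  let I : ℕ → X.Modules := fun n => R.cocomplex.X n
  let g : ∀ n, I n ⟶ Z (n + 1) := fun n => kernel.lift (d (n + 1)) (d n) (R.cocomplex.d_comp_d _ _ _)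
  haveI : ∀ n, Injective (I n) := fun n => R.injective n
  have hg : ∀ n, Epi (g n) := fun n => (R.exact_succ n).epi_kernelLift
  have w : ∀ n, kernel.ι (d n) ≫ g n = 0 := fun n => by
    rw [← cancel_mono (kernel.ι (d (n + 1))), Category.assoc, kernel.lift_ι, kernel.condition, zero_comp]
  have hS : ∀ n, (ShortComplex.mk (kernel.ι (d n)) (g n) (w n)).ShortExact := fun n =>
    { exact := by
        refine ShortComplex.exact_of_f_is_kernel _ (KernelFork.IsLimit.ofι' _ _ fun {W} k hk => ?_)
        have hkd : k ≫ d n = 0 :=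
          ((congrArg (k ≫ ·) (kernel.lift_ι (d (n + 1)) (d n) (R.cocomplex.d_comp_d _ _ _))).symm.trans
            (Category.assoc _ _ _).symm).trans ((congrArg (· ≫ kernel.ι (d (n + 1))) hk).trans zero_comp)
        exact ⟨kernel.lift (d n) k hkd, kernel.lift_ι _ _ _⟩
      mono_f := inferInstanceAs (Mono (kernel.ι (d n)))
      epi_g := hg n }
  -- the local Ext sheaves as cokernels
  have hc : ∀ n, Coh.IsCoh (cokernel (H.map (g n))) := fun n => by
    let C := (H.mapHomologicalComplex (ComplexShape.up ℕ)).obj R.cocomplex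
    let T := C.sc' n (n + 1) (n + 2)
    have hk : IsLimit (KernelFork.ofι (H.map (kernel.ι (d (n + 1))))
        (show H.map (kernel.ι (d (n + 1))) ≫ H.map (d (n + 1)) = 0 by
          rw [← Functor.map_comp, kernel.condition, Functor.map_zero])) :=
      isLimitForkMapOfIsLimit' H (kernel.condition (d (n + 1))) (kernelIsKernel (d (n + 1)))
    haveI : Mono (H.map (kernel.ι (d (n + 1)))) := mono_of_isLimit_fork hk
    have he : hk.lift (KernelFork.ofι T.f T.zero) = H.map (g n) :=
      (cancel_mono (H.map (kernel.ι (d (n + 1))))).1 ((Fork.IsLimit.lift_ι hk).trans (by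
        rw [← Functor.map_comp, kernel.lift_ι]; rfl))
    let hd : T.LeftHomologyData :=
      { K := H.obj (Z (n + 1))
        H := cokernel (H.map (g n))
        i := H.map (kernel.ι (d (n + 1)))
        π := cokernel.π (H.map (g n))
        wi := by
          show H.map (kernel.ι (d (n + 1))) ≫ H.map (d (n + 1)) = 0
          rw [← Functor.map_comp, kernel.condition, Functor.map_zero]
        hi := hk
        wπ := by rw [he]; exact cokernel.condition _
        hπ := CokernelCofork.IsColimit.ofπ _ _
          (fun g' hg' => cokernel.desc (H.map (g n)) g' (by rw [← he]; exact hg'))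
          (fun g' hg' => cokernel.π_desc _ _ _) fun g' hg' m' hm => by
            rw [← cancel_epi (cokernel.π (H.map (g n)))]
            simpa using hm }
    exact SheafHomX.isCoh_of_iso (hd.homologyIso.symm ≪≫ (C.homologyIsoSc' n (n + 1) (n + 2) (by simp) (by simp)).symm ≪≫
      (R.isoRightDerivedObj H (n + 1)).symm).symm (isCoh_E hF hG (n + 1))
  -- the two short exact sequences through the image
  let b : ∀ n, cokernel (H.map (kernel.ι (d n))) ⟶ H.obj (Z (n + 1)) := fun n =>
    cokernel.desc _ (H.map (g n)) (by rw [← Functor.map_comp, w, Functor.map_zero])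
  have hl : ∀ n, ((ShortComplex.mk (kernel.ι (d n)) (g n) (w n)).map H).Exact ∧ Mono (H.map (kernel.ι (d n))) :=
    fun n => ((Functor.preservesFiniteLimits_tfae H).out 3 0 rfl rfl).1 inferInstance _ (hS n)
  have hT₁ : ∀ n, (ShortComplex.mk (H.map (kernel.ι (d n))) (cokernel.π _) (cokernel.condition _)).ShortExact := fun n =>
    { exact := ShortComplex.exact_of_g_is_cokernel _ (cokernelIsCokernel _)
      mono_f := (hl n).2
      epi_g := inferInstanceAs (Epi (cokernel.π _)) }
  have hbm : ∀ n, Mono (b n) := fun n => (hl n).1.mono_cokernelDesc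
  have hπb : ∀ n, cokernel.π (H.map (kernel.ι (d n))) ≫ b n = H.map (g n) := fun n => cokernel.π_desc _ _ _
  have hT₂ : ∀ n, (ShortComplex.mk (b n) (cokernel.π (H.map (g n))) (by
      rw [← cancel_epi (cokernel.π (H.map (kernel.ι (d n)))), reassoc_of% hπb, cokernel.condition, comp_zero]
      )).ShortExact := fun n =>
    { exact := by
        refine ShortComplex.exact_of_g_is_cokernel _ (CokernelCofork.IsColimit.ofπ _ _
          (fun k hk => cokernel.desc (H.map (g n)) k (by rw [← hπb, Category.assoc]; erw [hk]; exact comp_zero))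
          (fun k hk => cokernel.π_desc _ _ _) fun k hk m hm => ?_)
        apply (cancel_epi (cokernel.π (H.map (g n)))).1
        simpa using hm
      mono_f := hbm n
      epi_g := inferInstanceAs (Epi (cokernel.π _)) }
  let ψ : G ≅ Z 0 := IsLimit.conePointUniqueUpToIso R.isLimitKernelFork (limit.isLimit _)
  -- finiteness of the cohomology of the cocycle sheaves
  have hW : ∀ m q, Module.Finite A (Abelian.Ext.{u} O (H.obj (Z m)) (q + 1)) := by
    intro m
    induction m with
    | zero => exact fun q => finite_ext_unit (SheafHomX.isCoh_of_iso (H.mapIso ψ) hH0) _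
    | succ m ih =>
      intro q
      haveI : Subsingleton (Abelian.Ext.{u} O (H.obj (I m)) (q + 1)) := subsingleton_ext_unit_hom F (I m) q
      have hB : Module.Finite A (Abelian.Ext.{u} O (cokernel (H.map (kernel.ι (d m)))) (q + 1)) :=
        finite_of_exact (U := PUnit.{u + 1}) (0 : PUnit.{u + 1} →ₗ[A] _)
          (Abelian.Ext.postcompOfLinear (hT₁ m).extClass A O (rfl : q + 1 + 1 = q + 2))
          inferInstance (ih (q + 1)) fun v hv => by
            obtain ⟨x, hx⟩ := Abelian.Ext.covariant_sequence_exact₃ O (hT₁ m) v (rfl : q + 1 + 1 = q + 2) hv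
            refine ⟨0, ?_⟩
            rw [map_zero, ← hx, Subsingleton.elim x 0, Abelian.Ext.zero_comp]
      exact finite_of_exact (Abelian.Ext.postcompOfLinear (Abelian.Ext.mk₀ (b m)) A O (add_zero (q + 1)))
        (Abelian.Ext.postcompOfLinear (Abelian.Ext.mk₀ (cokernel.π (H.map (g m)))) A O (add_zero (q + 1)))
        hB (finite_ext_unit (hc m) _) fun v hv => by
          obtain ⟨x, hx⟩ := Abelian.Ext.covariant_sequence_exact₂ O (hT₂ m) v hv
          exact ⟨x, hx⟩
  obtain ⟨L, hLs, hLk⟩ := exists_shift_map (A := A) F Z I (fun n => kernel.ι (d n)) g w hS n 0 n (by omega)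
  let B := cokernel (H.map (kernel.ι (d n)))
  let δ : (O ⟶ B) →ₗ[A] Abelian.Ext.{u} O (H.obj (Z n)) 1 :=
    (Abelian.Ext.postcompOfLinear (hT₁ n).extClass A O (zero_add 1)) ∘ₗ
      (Abelian.Ext.linearEquiv₀ (R := A)).symm.toLinearMap
  haveI hP : Module.Finite A (O ⟶ cokernel (H.map (g n))) :=
    haveI := finite_ext_unit (A := A) (hc n) 0
    Module.Finite.equiv (Abelian.Ext.linearEquiv₀ (R := A))
  haveI : Module.Finite A (Abelian.Ext.{u} F (Z 0) (n + 1)) :=
    finite_of_factor L hLs
      ((Linear.rightComp A O (cokernel.π (H.map (g n)))) ∘ₗ (evLin F (Z (n + 1))).symm.toLinearMap)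
      hP ((evLin F (Z (n + 1))).toLinearMap ∘ₗ Linear.rightComp A O (b n)) (fun v hv => by
        haveI := hbm n
        refine ⟨(hT₂ n).exact.lift ((evLin (A := A) F (Z (n + 1))).symm v) hv, ?_⟩
        show evLin (A := A) F (Z (n + 1)) ((hT₂ n).exact.lift _ hv ≫ b n) = v
        refine (congrArg (evLin (A := A) F (Z (n + 1))) ((hT₂ n).exact.lift_f _ hv)).trans ?_
        exact LinearEquiv.apply_symm_apply _ v) δ (hW n 0) fun x hx => by
      obtain ⟨y, hy⟩ := Abelian.Ext.covariant_sequence_exact₃ O (hT₁ n) (Abelian.Ext.mk₀ x) (n₁ := 1) rfl hx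
      obtain ⟨u, rfl⟩ := (Abelian.Ext.mk₀_bijective _ _).2 y
      rw [Abelian.Ext.mk₀_comp_mk₀] at hy
      have hu := (Abelian.Ext.mk₀_bijective _ _).1 hy
      refine (hLk _).2 ⟨evLin (A := A) F (I n) u, ?_⟩
      show _ = evLin (A := A) F (Z (n + 1)) (x ≫ b n)
      rw [← hu, Category.assoc, hπb]
      exact (SheafHomX.ev_naturality u (g n)).symm
  let e₀ : Abelian.Ext.{u} F G (n + 1) ≃ₗ[A] Abelian.Ext.{u} F (Z 0) (n + 1) :=
    { ((Abelian.extFunctorObj F (n + 1)).mapIso ψ).addCommGroupIsoToAddEquiv with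
      map_smul' := fun r y => Abelian.Ext.smul_comp y (Abelian.Ext.mk₀ ψ.hom) (add_zero _) r }
  exact Module.Finite.equiv e₀.symm

end Groth.Agent.ExtFin
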